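import Groth.Agent.ModTensor.Flat

/-!
# Flat presheaves of modules
-/

set_option autoImplicit false
set_option linter.style.haveILetI false
set_option linter.unusedSectionVars false

universe u

open CategoryTheory Limits MonoidalCategory Opposite TensorProduct

noncomputable section

namespace Groth.Agent.PshFlat

open Groth.Agent.ModTensor

variable {C : Type u} [SmallCategory C] {O : Cᵒᵖ ⥤ CommRingCat.{u}}

instance preservesColimits_tensorRight (P : PMod O) :
    PreservesColimitsOfSize.{u, u} (tensorRight P) := by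
  refine ⟨fun {K} _ => ⟨fun {F} => ⟨fun {c} hc => ⟨?_⟩⟩⟩⟩
  refine PresheafOfModules.evaluationJointlyReflectsColimits _ _ fun X => ?_
  haveI : PreservesColimitsOfSize.{u, u}
      (tensorRight (C := ModuleCat.{u} (O.obj X)) (P.obj X)) :=
    preservesColimits_of_natIso (BraidedCategory.tensorLeftIsoTensorRight _)
  exact isColimitOfPreserves (tensorRight (C := ModuleCat.{u} (O.obj X)) (P.obj X))
    (isColimitOfPreserves (PresheafOfModules.evaluation _ X) hc)

instance preservesFiniteColimits_tensorRight (P : PMod O) : PreservesFiniteColimits (tensorRight P) := by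
  haveI : PreservesColimitsOfSize.{0, 0} (tensorRight P) := preservesColimitsOfSize_shrink _
  exact PreservesColimitsOfSize.preservesFiniteColimits _

instance preservesFiniteColimits_tensorLeft (P : PMod O) : PreservesFiniteColimits (tensorLeft P) :=
  preservesFiniteColimits_of_natIso (BraidedCategory.tensorLeftIsoTensorRight P).symm

instance additive_tensorRight (P : PMod O) : (tensorRight P).Additive :=
  haveI := preservesBinaryBiproducts_of_preservesBinaryCoproducts (tensorRight P)
  Functor.additive_of_preservesBinaryBiproducts _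

/-- Tensoring with an objectwise flat presheaf of modules preserves monomorphisms. -/
theorem mono_whiskerRight (F : PMod O) (hF : ∀ X, Module.Flat (O.obj X) (F.obj X)) {A B : PMod O}
    (f : A ⟶ B) [Mono f] : Mono (f ▷ F) :=
  PresheafOfModules.mono_of_injective fun {X} => by
    haveI := hF X
    exact Module.Flat.rTensor_preserves_injective_linearMap (M := F.obj X) (lin f X)
      (PresheafOfModules.injective_of_mono f X)

/-- Objectwise flat presheaves of modules are flat. -/
theorem exact_tensorRight (F : PMod O) (hF : ∀ X, Module.Flat (O.obj X) (F.obj X)) :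
    PreservesFiniteLimits (tensorRight F) ∧ PreservesFiniteColimits (tensorRight F) := by
  haveI : (tensorRight F).PreservesMonomorphisms := ⟨fun f _ => mono_whiskerRight F hF f⟩
  haveI : ∀ {X Y : PMod O} (f : X ⟶ Y), PreservesColimit (parallelPair f 0) (tensorRight F) :=
    fun f => inferInstance
  haveI := Functor.preservesHomology_of_preservesMonos_and_cokernels (tensorRight F)
  exact ⟨Functor.preservesFiniteLimits_of_preservesHomology _, inferInstance⟩

/-- The free presheaf on all sections. -/
def freeCover (G : PMod O) : (PresheafOfModules.free (O ⋙ forget₂ CommRingCat RingCat)).obj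
    (G.presheaf ⋙ CategoryTheory.forget AddCommGrpCat) ⟶ G :=
  PresheafOfModules.freeObjDesc (𝟙 _)

theorem epi_freeCover (G : PMod O) : Epi (freeCover G) :=
  PresheafOfModules.epi_of_surjective fun {X} m =>
    ⟨ModuleCat.freeMk m, ModuleCat.freeDesc_apply _ m⟩

theorem flat_free (T : Cᵒᵖ ⥤ Type u) (X : Cᵒᵖ) : Module.Flat (O.obj X)
    (((PresheafOfModules.free (O ⋙ forget₂ CommRingCat RingCat)).obj T).obj X) :=
  (inferInstance : Module.Flat (O.obj X) (T.obj X →₀ O.obj X))

open Abelian in
/-- Tensoring a short exact sequence with flat cokernel keeps the left map injective. -/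
theorem mono_map_of_flat_X₃ (S : ShortComplex (PMod O)) (hS : S.ShortExact)
    (hF : PreservesFiniteLimits (tensorRight S.X₃)) (G : PMod O) :
    Mono (S.f ▷ G) := by
  let P := (PresheafOfModules.free (O ⋙ forget₂ CommRingCat RingCat)).obj
    (G.presheaf ⋙ CategoryTheory.forget AddCommGrpCat)
  let p : P ⟶ G := freeCover G
  haveI : Epi p := epi_freeCover G
  let T := ShortComplex.mk (kernel.ι p) p (kernel.condition p)
  have hT : T.ShortExact :=
    { exact := ShortComplex.exact_of_f_is_kernel _ (kernelIsKernel p) }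
  have hrow : ∀ M, (T.map (tensorLeft M)).Exact ∧ Epi ((tensorLeft M).map p) := fun M => by
    haveI := hT.epi_g
    exact ⟨hT.exact.map_of_epi_of_preservesCokernel (tensorLeft M) hT.epi_g inferInstance,
      (inferInstance : Epi ((tensorLeft M).map T.g))⟩
  have hcol : (S.map (tensorRight T.X₁)).Exact :=
    hS.exact.map_of_epi_of_preservesCokernel _ hS.epi_g inferInstance
  haveI : Mono (S.X₃ ◁ T.f) := by
    haveI : PreservesFiniteLimits (tensorLeft S.X₃) :=
      preservesFiniteLimits_of_natIso (BraidedCategory.tensorLeftIsoTensorRight S.X₃).symm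
    exact (inferInstance : Mono ((tensorLeft S.X₃).map T.f))
  haveI : Mono (S.f ▷ P) := by
    haveI := hS.mono_f
    exact mono_whiskerRight P (flat_free _) S.f
  refine Preadditive.mono_of_cancel_zero _ fun {W} x hx => ?_
  haveI := (hrow S.X₁).2
  obtain ⟨W₁, π₁, _, p₁, hp₁⟩ := surjective_up_to_refinements_of_epi ((tensorLeft S.X₁).map p) x
  obtain ⟨W₂, π₂, _, k, hk⟩ := (hrow S.X₂).1.exact_up_to_refinements (p₁ ≫ (S.f ▷ P)) (by
    show (p₁ ≫ (S.f ▷ P)) ≫ (S.X₂ ◁ p) = 0
    rw [Category.assoc, ← whisker_exchange]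
    exact (Category.assoc _ _ _).symm.trans ((congrArg (· ≫ (S.f ▷ G)) hp₁).symm.trans
      ((Category.assoc _ _ _).trans ((congrArg (π₁ ≫ ·) hx).trans comp_zero))))
  change W₂ ⟶ S.X₂ ⊗ T.X₁ at k
  change π₂ ≫ p₁ ≫ (S.f ▷ P) = k ≫ (S.X₂ ◁ T.f) at hk
  obtain ⟨W₃, π₃, _, k₁, hk₁⟩ := hcol.exact_up_to_refinements k (by
    show k ≫ (S.g ▷ T.X₁) = 0
    rw [← cancel_mono (S.X₃ ◁ T.f), zero_comp, Category.assoc, ← whisker_exchange, ← reassoc_of% hk]
    have h0 : S.f ▷ P ≫ S.g ▷ P = 0 :=
      ((tensorRight P).map_comp S.f S.g).symm.trans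
        ((congrArg (tensorRight P).map S.zero).trans ((tensorRight P).map_zero _ _))
    rw [h0, comp_zero, comp_zero])
  change π₃ ≫ k = k₁ ≫ (S.f ▷ T.X₁) at hk₁
  have h4 : π₃ ≫ π₂ ≫ p₁ = k₁ ≫ (S.X₁ ◁ T.f) := by
    rw [← cancel_mono (S.f ▷ P), Category.assoc, Category.assoc, hk, reassoc_of% hk₁,
      Category.assoc]
    exact congr_arg (k₁ ≫ ·) (whisker_exchange S.f T.f).symm
  rw [← cancel_epi π₁, ← cancel_epi π₂, ← cancel_epi π₃, comp_zero, comp_zero, comp_zero, hp₁,
    reassoc_of% h4]
  exact (congr_arg (k₁ ≫ ·) (((tensorLeft S.X₁).map_comp T.f p).symm.trans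
    ((congr_arg (tensorLeft S.X₁).map T.zero).trans
      ((tensorLeft S.X₁).map_zero _ _)))).trans comp_zero

/-- Tensoring a short exact sequence with flat cokernel gives a short exact sequence. -/
theorem shortExact_map (S : ShortComplex (PMod O)) (hS : S.ShortExact)
    (hF : PreservesFiniteLimits (tensorRight S.X₃)) (G : PMod O)
    [(tensorRight G).PreservesZeroMorphisms] : (S.map (tensorRight G)).ShortExact := by
  haveI := hS.epi_g
  exact { exact := hS.exact.map_of_epi_of_preservesCokernel _ hS.epi_g inferInstance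
          mono_f := mono_map_of_flat_X₃ S hS hF G
          epi_g := (inferInstance : Epi ((tensorRight G).map S.g)) }

end Groth.Agent.PshFlat
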